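import Groth.Agent.OmegaAffLib.Universal
import Mathlib.Algebra.Category.ModuleCat.Presheaf.Sheafification
import Mathlib.Algebra.Category.ModuleCat.Sheaf.Limits

/-!
# A universal derivation exists for every morphism of schemes

The sheafification of the sectionwise differentials over the subrings of functions coming from the base.
-/

set_option autoImplicit false
set_option linter.style.haveILetI false
universe u
open CategoryTheory CategoryTheory.Limits AlgebraicGeometry TopologicalSpace Opposite

noncomputable section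

namespace OmegaExistsLib

variable {X Y : Scheme.{u}} (f : X ⟶ Y)

/-- The functions on `U` generated by those coming from `Y`. -/
def baseSubring (U : X.Opens) : Subring Γ(X, U) :=
  Subring.closure {a | ∃ (V : Y.Opens) (h : U ≤ f ⁻¹ᵁ V) (c : Γ(Y, V)), f.appLE V U h c = a}

theorem appLE_mem (V : Y.Opens) (U : X.Opens) (h : U ≤ f ⁻¹ᵁ V) (c : Γ(Y, V)) :
    f.appLE V U h c ∈ baseSubring f U := Subring.subset_closure ⟨V, h, c, rfl⟩

theorem map_mem {U W : (X.Opens)ᵒᵖ} (i : U ⟶ W) {a : Γ(X, U.unop)} (ha : a ∈ baseSubring f U.unop) :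
    X.presheaf.map i a ∈ baseSubring f W.unop := by
  have hle : baseSubring f U.unop ≤ (baseSubring f W.unop).comap (X.presheaf.map i).hom := by
    refine Subring.closure_le.2 ?_
    rintro _ ⟨V, h, c, rfl⟩
    refine Subring.subset_closure ⟨V, i.unop.le.trans h, c, ?_⟩
    rw [← Scheme.Hom.appLE_map f h i]
    rfl
  exact hle ha

/-- The presheaf of those functions. -/
def base : (X.Opens)ᵒᵖ ⥤ CommRingCat.{u} where
  obj U := CommRingCat.of (baseSubring f U.unop)
  map {U W} i := CommRingCat.ofHom ((X.presheaf.map i).hom.restrict (baseSubring f U.unop) (baseSubring f W.unop)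
    fun a ha => map_mem f i ha)
  map_id U := by
    ext a
    show X.presheaf.map (𝟙 U) a.1 = a.1
    rw [X.presheaf.map_id]
    rfl
  map_comp i j := by
    ext a
    show X.presheaf.map (i ≫ j) a.1 = X.presheaf.map j (X.presheaf.map i a.1)
    rw [X.presheaf.map_comp]
    rfl

/-- Its inclusion. -/
def incl : base f ⟶ X.presheaf where
  app U := CommRingCat.ofHom (baseSubring f U.unop).subtype

variable {f}

theorem app_mem_base {F : X.Modules} (D : OmegaSh.Der f F) (U : X.Opens) {a : Γ(X, U)}
    (ha : a ∈ baseSubring f U) : D.app U a = 0 := by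
  refine Subring.closure_induction (fun _ ⟨V, h, c, hc⟩ => hc ▸ OmegaAffLib.der_appLE D V U h c) (map_zero _) ?_
    (fun a b _ _ ha hb => by rw [map_add, ha, hb, add_zero]) (fun a _ ha => by rw [map_neg, ha, neg_zero])
    (fun a b _ _ ha hb => by rw [OmegaAffLib.der_mul, ha, hb, smul_zero, smul_zero, add_zero]) ha
  have h := OmegaAffLib.der_mul D U 1 1
  rw [one_mul, one_smul] at h
  exact left_eq_add.mp h

/-- A derivation relative to `f` kills the functions coming from `Y`. -/
def toPre {F : X.Modules} (D : OmegaSh.Der f F) : F.val.Derivation' (incl f) where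
  d := D.d
  d_mul := D.d_mul
  d_map := D.d_map
  d_app {U} a := app_mem_base D U.unop a.2

/-- Conversely. -/
def ofPre {F : X.Modules} (D : F.val.Derivation' (incl f)) : OmegaSh.Der f F where
  d := D.d
  d_mul := D.d_mul
  d_map := D.d_map
  d_app {V} c := by
    refine (congrArg D.d ?_).trans (D.d_app ⟨_, appLE_mem f V.unop _ le_rfl c⟩)
    show f.app V.unop c = f.appLE V.unop (f ⁻¹ᵁ V.unop) le_rfl c
    rw [← Scheme.Hom.app_eq_appLE]

theorem der_ext {C D : Type u} [Category.{u} C] [Category.{u} D] {S : Cᵒᵖ ⥤ CommRingCat.{u}} {G : C ⥤ D}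
    {R : Dᵒᵖ ⥤ CommRingCat.{u}} {M : PresheafOfModules.{u} (R ⋙ forget₂ _ _)} {φ : S ⟶ G.op ⋙ R}
    {x y : M.Derivation φ} (h : ∀ (U : Dᵒᵖ) (a : R.obj U), x.d (X := U) a = y.d (X := U) a) : x = y := by
  apply PresheafOfModules.Derivation.ext
  funext U
  exact AddMonoidHom.ext (h U)

variable (f)

open PresheafOfModules in
/-- Every morphism of schemes has a universal derivation. -/
theorem exists_isUniversal : ∃ (Ω : X.Modules) (d : OmegaSh.Der f Ω), OmegaSh.IsUniversal d := by
  let M₀ := DifferentialsConstruction.relativeDifferentials' (incl f)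
  let d₀ := DifferentialsConstruction.derivation' (incl f)
  let u₀ := DifferentialsConstruction.isUniversal' (incl f)
  let adj := sheafificationAdjunction.{u} (𝟙 X.ringCatSheaf.obj)
  let Ω : X.Modules := (sheafification.{u} (𝟙 X.ringCatSheaf.obj)).obj M₀
  let η : M₀ ⟶ Ω.val := adj.unit.app M₀
  refine ⟨Ω, ofPre (d₀.postcomp η), fun F D => ?_⟩
  let g : M₀ ⟶ F.val := u₀.desc (toPre D)
  have key : ∀ α : Ω ⟶ F,
      (ofPre (d₀.postcomp η)).postcomp α.val = D ↔ η ≫ α.val = g := by
    intro α
    constructor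
    · intro h
      refine u₀.postcomp_injective _ _ ((der_ext fun U a => ?_).trans (u₀.fac (toPre D)).symm)
      exact Derivation.congr_d h (X := U) a
    · intro h
      have h' : d₀.postcomp (η ≫ α.val) = toPre D :=
        (congrArg d₀.postcomp h).trans (u₀.fac _)
      exact der_ext fun U a => Derivation.congr_d h' (X := U) a
  obtain ⟨α, hα, hα'⟩ : ∃ α : Ω ⟶ F, η ≫ α.val = g ∧ ∀ β : Ω ⟶ F, η ≫ β.val = g → β = α := by
    refine ⟨(adj.homEquiv M₀ F).symm g, ?_, fun β hβ => ?_⟩
    · exact ((adj.homEquiv_unit (f := (adj.homEquiv M₀ F).symm g)).symm).trans ((adj.homEquiv M₀ F).apply_symm_apply g)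
    · exact ((adj.homEquiv M₀ F).symm_apply_apply β).symm.trans
        (congrArg (adj.homEquiv M₀ F).symm ((adj.homEquiv_unit (f := β)).trans hβ))
  exact ⟨α, (key α).2 hα, fun β hβ => hα' β ((key β).1 hβ)⟩

end OmegaExistsLib

end
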